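import Groth.Agent.Lib.RigClosed.RegularSeries
import Groth.Agent.Lib.AdicExtra.Completion
import Mathlib.RingTheory.MvPowerSeries.Equiv

/-!
# Adic completions and power series rings of regular rings are regular
-/

set_option autoImplicit false
universe u

open TensorProduct

namespace GrothLib.RegCompl

variable {A : Type u} [CommRing A] (J : Ideal A)

/-- Every element of the completion is congruent to an element of the ring. -/
theorem exists_sub_mem_map (hJ : J.FG) (t : AdicCompletion J A) :
    ∃ s : A, t - algebraMap A (AdicCompletion J A) s ∈ J.map (algebraMap A (AdicCompletion J A)) := by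
  obtain ⟨s, hs⟩ := Ideal.Quotient.mk_surjective (AdicCompletion.evalOneₐ J t)
  refine ⟨s, ?_⟩
  rw [← AdicCompletion.ker_evalOneₐ_eq_map J hJ, RingHom.mem_ker]
  show AdicCompletion.evalOneₐ J (t - algebraMap A (AdicCompletion J A) s) = 0
  rw [map_sub, AlgHom.commutes, ← hs, Ideal.Quotient.algebraMap_eq, sub_self]

/-- The fibres of the completion over the primes containing the ideal of definition are fields. -/
theorem algebraMap_fiber_surjective (hJ : J.FG) (p : Ideal A) [p.IsPrime] (hp : J ≤ p) :
    Function.Surjective (algebraMap p.ResidueField (p.Fiber (AdicCompletion J A))) := by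
  set C := AdicCompletion J A
  intro z
  induction z using TensorProduct.induction_on with
  | zero => exact ⟨0, map_zero _⟩
  | add a b ha hb =>
    obtain ⟨x, rfl⟩ := ha
    obtain ⟨y, rfl⟩ := hb
    exact ⟨x + y, map_add _ x y⟩
  | tmul l t =>
    obtain ⟨s, hs⟩ := exists_sub_mem_map J hJ t
    let ι : C →ₐ[A] p.Fiber C := Algebra.TensorProduct.includeRight
    have hker : J.map (algebraMap A C) ≤ RingHom.ker ι.toRingHom := Ideal.map_le_iff_le_comap.2 fun x hx => by
      rw [Ideal.mem_comap, RingHom.mem_ker]
      show ι (algebraMap A C x) = 0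
      rw [AlgHom.commutes, IsScalarTower.algebraMap_apply A p.ResidueField (p.Fiber C),
        Ideal.algebraMap_residueField_eq_zero.2 (hp hx), map_zero]
    have h0 : ι (t - algebraMap A C s) = 0 := hker hs
    rw [map_sub, sub_eq_zero, AlgHom.commutes] at h0
    refine ⟨l * algebraMap A p.ResidueField s, ?_⟩
    rw [map_mul, ← IsScalarTower.algebraMap_apply, ← h0, Algebra.TensorProduct.algebraMap_apply,
      Algebra.algebraMap_self, RingHom.id_apply]
    show (l ⊗ₜ[A] (1 : C)) * ((1 : p.ResidueField) ⊗ₜ[A] t) = l ⊗ₜ[A] t
    rw [Algebra.TensorProduct.tmul_mul_tmul, mul_one, one_mul]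

/-- **The completion of a regular ring along an ideal is regular.** -/
theorem isRegularRing_adicCompletion [IsRegularRing A] : IsRegularRing (AdicCompletion J A) := by
  set C := AdicCompletion J A
  have hJ : J.FG := IsNoetherian.noetherian J
  haveI : IsNoetherianRing C := GrothLib.AdicExtra.isNoetherianRing_adicCompletion_of_fg J hJ
  haveI : IsAdicComplete (J.map (algebraMap A C)) C := AdicCompletion.isAdicComplete_self J hJ
  refine GrothLib.RigClosed.isRegularRing_of_flat_of_fibres_maximal A C fun q _ => ?_
  have hp : J ≤ q.under A := Ideal.map_le_iff_le_comap.1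
    ((IsAdicComplete.le_jacobson_bot (J.map (algebraMap A C))).trans (sInf_le ⟨bot_le, inferInstance⟩))
  haveI : Nontrivial ((q.under A).Fiber C) :=
    (PrimeSpectrum.primesOverOrderIsoFiber A C (q.under A) ⟨q, inferInstance, ⟨rfl⟩⟩).nontrivial
  have hbij : Function.Bijective (algebraMap (q.under A).ResidueField ((q.under A).Fiber C)) :=
    ⟨RingHom.injective _, algebraMap_fiber_surjective J hJ _ hp⟩
  exact IsRegularRing.of_ringEquiv (R := (q.under A).ResidueField) (RingEquiv.ofBijective _ hbij)

/-- **Power series rings over regular rings are regular.** -/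
theorem isRegularRing_mvPowerSeries [IsRegularRing A] (n : ℕ) : IsRegularRing (MvPowerSeries (Fin n) A) := by
  haveI := isRegularRing_adicCompletion (MvPolynomial.idealOfVars (Fin n) A)
  exact IsRegularRing.of_ringEquiv
    (R := AdicCompletion (MvPolynomial.idealOfVars (Fin n) A) (MvPolynomial (Fin n) A))
    (MvPowerSeries.toAdicCompletionAlgEquiv (Fin n) A).symm.toRingEquiv

end GrothLib.RegCompl
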